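import Cfsg.Agent.H878.RIM.FiTool

/-!
# S4816, `Fi22`: the good elements, part 0 (helper878)
-/

set_option autoImplicit false
set_option maxRecDepth 1000000
set_option exponentiation.threshold 5000

namespace Cfsg.Agent.H878.RIM.Fi

open Cfsg Cfsg.Spor Cfsg.Agent.H123.Cls.FiDat
open Cfsg.Agent.H326.QS.FiRow (cw)
open Cfsg.Agent.H878.RIM.KTwo Cfsg.Agent.H878.RIM.KThree

theorem ky0 : key (el (cw [3, 7, 4, 3] [2, 4])) = [2304, 0] := key_of cm0 sg0 rfl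

theorem gh0 : G3 (el (cw [3, 7, 4, 3] [2, 4])) := g3_of 2 (by decide) (by decide +kernel)

theorem ky4 : key (el (cw [3, 7, 4, 0, 3, 8, 5, 4, 7, 3] [2, 8, 7])) = [0, 1296] := key_of cm4 sg4 rfl

theorem gt4 : G2 (el (cw [3, 7, 4, 0, 3, 8, 5, 4, 7, 3] [2, 8, 7])) := g2_of 3 (by decide) g2_nil (by decide +kernel)

theorem ky8 : key (el (cw [3, 7, 5, 1, 0, 8, 2, 4, 6, 1, 5, 7, 3] [4, 3, 2])) = [3072, 0] := key_of cm8 sg8 rfl

theorem gh8 : G3 (el (cw [3, 7, 5, 1, 0, 8, 2, 4, 6, 1, 5, 7, 3] [4, 3, 2])) := g3_of 4 (by decide) (by decide +kernel)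

theorem ky12 : key (el (cw [8, 2] [7, 3])) = [2100, 2600] := key_of cm12 sg12 rfl

theorem gt12 : G2 (el (cw [8, 2] [7, 3])) := g2_of 5 (by decide) g2_nil (by decide +kernel)

theorem gh12 : G3 (el (cw [8, 2] [7, 3])) := g3_of 5 (by decide) (by decide +kernel)

theorem ky21 : key (el (cw [1, 4, 6] [0, 5])) = [448, 2424] := key_of cm21 sg21 rfl

theorem gt21 : G2 (el (cw [1, 4, 6] [0, 5])) := g2_of 3 (by decide)
  (g2_tw [] 5 [6, 5] 4 (by decide +kernel)) (by decide +kernel)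

theorem gh21 : G3 (el (cw [1, 4, 6] [0, 5])) := g3_tr (by decide +kernel)

theorem ky25 : key (el (cw [5, 2, 8] [3, 4, 6, 7])) = [2240, 1792] := key_of cm25 sg25 rfl

theorem gh25 : G3 (el (cw [5, 2, 8] [3, 4, 6, 7])) := g3_of 8 (by decide) (by decide +kernel)

theorem ky29 : key (el (cw [5, 1, 7] [2, 3, 4])) = [2484, 2268] := key_of cm29 sg29 rfl

theorem gt29 : G2 (el (cw [5, 1, 7] [2, 3, 4])) := g2_of 9 (by decide) g2_nil (by decide +kernel)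

theorem ky33 : key (el (cw [3, 5, 2] [4, 3, 6, 7])) = [2036, 2000] := key_of cm33 sg33 rfl

theorem gt33 : G2 (el (cw [3, 5, 2] [4, 3, 6, 7])) := g2_of 5 (by decide) (g2_tr [1, 2, 3, 7, 4, 5, 3, 4, 2, 3, 7, 6, 5, 4, 3, 2] 1) (by decide +kernel)

theorem gh33 : G3 (el (cw [3, 5, 2] [4, 3, 6, 7])) := g3_of 10 (by decide) (by decide +kernel)

theorem ky47 : key (el (cw [4, 8, 0] [1, 7, 3])) = [2040, 2504] := key_of cm47 sg47 rfl

theorem gt47 : G2 (el (cw [4, 8, 0] [1, 7, 3])) := g2_of 15 (by decide) g2_nil (by decide +kernel)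

theorem gh47 : G3 (el (cw [4, 8, 0] [1, 7, 3])) := g3_tr (by decide +kernel)

theorem ky51 : key (el (cw [2, 3, 2, 5, 8, 1] [0, 4, 3, 7])) = [2492, 2208] := key_of cm51 sg51 rfl

theorem gt51 : G2 (el (cw [2, 3, 2, 5, 8, 1] [0, 4, 3, 7])) := g2_of 9 (by decide) (g2_tr [3, 7, 8, 3, 4, 1, 2, 3, 7, 5, 4, 3, 2, 1] 0) (by decide +kernel)

theorem gh51 : G3 (el (cw [2, 3, 2, 5, 8, 1] [0, 4, 3, 7])) := g3_tr (by decide +kernel)

theorem ky57 : key (el (cw [4, 0, 3, 6, 8, 4] [5, 7, 3, 2, 1])) = [2240, 2228] := key_of cm57 sg57 rfl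

theorem gt57 : G2 (el (cw [4, 0, 3, 6, 8, 4] [5, 7, 3, 2, 1])) := g2_of 15 (by decide) (g2_tr [5, 4, 0, 1, 2, 3, 7, 8, 5, 3, 4, 2, 3, 7, 6, 5, 4, 3, 2, 1] 0) (by decide +kernel)

theorem gh57 : G3 (el (cw [4, 0, 3, 6, 8, 4] [5, 7, 3, 2, 1])) := g3_tr (by decide +kernel)

end Cfsg.Agent.H878.RIM.Fi
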