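import Cfsg.Agent.H878.RIM.FiTool

/-!
# S4816, `Fi22`: the good elements, part 2 (helper878)
-/

set_option autoImplicit false
set_option maxRecDepth 1000000
set_option exponentiation.threshold 5000

namespace Cfsg.Agent.H878.RIM.Fi

open Cfsg Cfsg.Spor Cfsg.Agent.H123.Cls.FiDat
open Cfsg.Agent.H326.QS.FiRow (cw)
open Cfsg.Agent.H878.RIM.KTwo Cfsg.Agent.H878.RIM.KThree

theorem ky2 : key (el (cw [8, 6, 5, 4, 3, 2, 7, 0, 4, 2, 2, 3, 4, 5, 6, 8] [3, 4, 6, 7, 8, 7, 3, 2, 4])) = [2816, 0] := key_of cm2 sg2 rfl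

theorem gt2 : G2 (el (cw [8, 6, 5, 4, 3, 2, 7, 0, 4, 2, 2, 3, 4, 5, 6, 8] [3, 4, 6, 7, 8, 7, 3, 2, 4])) := g2_of 1 (by decide) (g2_tr [7, 3, 4, 2, 3, 7, 8, 5, 4, 3, 7, 6, 5, 4, 3] 2) (by decide +kernel)

theorem gh2 : G3 (el (cw [8, 6, 5, 4, 3, 2, 7, 0, 4, 2, 2, 3, 4, 5, 6, 8] [3, 4, 6, 7, 8, 7, 3, 2, 4])) := g3_of 2 (by decide) (by decide +kernel)

theorem ky6 : key (el (cw [2] [1])) = [0, 3384] := key_of cm6 sg6 rfl

theorem gt6 : G2 (el (cw [2] [1])) := g2_of 3 (by decide) g2_nil (by decide +kernel)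

theorem gh6 : G3 (el (cw [2] [1])) := g3_tr (by decide +kernel)

theorem ky10 : key (el (cw [3, 5, 2, 7, 3] [4, 6, 8, 7, 3, 5, 4])) = [2688, 0] := key_of cm10 sg10 rfl

theorem gh10 : G3 (el (cw [3, 5, 2, 7, 3] [4, 6, 8, 7, 3, 5, 4])) := g3_of 4 (by decide) (by decide +kernel)

theorem ky18 : key (el (cw [4, 3, 6, 2, 3] [7, 3, 5])) = [2168, 1368] := key_of cm18 sg18 rfl

theorem gt18 : G2 (el (cw [4, 3, 6, 2, 3] [7, 3, 5])) := g2_of 3 (by decide) (g2_tr [1, 2, 3, 7, 4, 5, 3, 4, 2, 3, 7, 6, 5, 4, 3, 2] 1) (by decide +kernel)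

theorem ky23 : key (el (cw [3, 6, 7, 2, 3] [5, 4, 7])) = [1520, 2088] := key_of cm23 sg23 rfl

theorem gt23 : G2 (el (cw [3, 6, 7, 2, 3] [5, 4, 7])) := g2_of 3 (by decide) (g2_tr [1, 2, 3, 7, 4, 5, 3, 4, 2, 3, 7, 6, 5, 4, 3, 2] 1) (by decide +kernel)

theorem gh23 : G3 (el (cw [3, 6, 7, 2, 3] [5, 4, 7])) := g3_tr (by decide +kernel)

theorem ky27 : key (el (cw [5, 4, 6, 7, 0] [1, 3, 2, 6, 7, 3])) = [2528, 896] := key_of cm27 sg27 rfl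

theorem gh27 : G3 (el (cw [5, 4, 6, 7, 0] [1, 3, 2, 6, 7, 3])) := g3_of 8 (by decide) (by decide +kernel)

theorem ky31 : key (el (cw [8, 5, 7, 2, 8] [1, 3, 4, 7, 3])) = [972, 2208] := key_of cm31 sg31 rfl

theorem gt31 : G2 (el (cw [8, 5, 7, 2, 8] [1, 3, 4, 7, 3])) := g2_of 9 (by decide) g2_nil (by decide +kernel)

theorem gh31 : G3 (el (cw [8, 5, 7, 2, 8] [1, 3, 4, 7, 3])) := g3_tr (by decide +kernel)

theorem ky45 : key (el (cw [5, 8, 2, 0] [1, 3, 4, 7])) = [2184, 2184] := key_of cm45 sg45 rfl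

theorem gt45 : G2 (el (cw [5, 8, 2, 0] [1, 3, 4, 7])) := g2_of 13 (by decide) g2_nil (by decide +kernel)

theorem gh45 : G3 (el (cw [5, 8, 2, 0] [1, 3, 4, 7])) := g3_of 13 (by decide) (by decide +kernel)

theorem ky49 : key (el (cw [2, 5, 0, 8] [1, 4, 7, 3, 6])) = [2708, 2076] := key_of cm49 sg49 rfl

theorem gt49 : G2 (el (cw [2, 5, 0, 8] [1, 4, 7, 3, 6])) := g2_of 9 (by decide) (g2_tr [6, 5] 4) (by decide +kernel)

theorem ky53 : key (el (cw [2, 5, 0, 8] [1, 6, 7, 3])) = [2156, 2348] := key_of cm53 sg53 rfl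

theorem gt53 : G2 (el (cw [2, 5, 0, 8] [1, 6, 7, 3])) := g2_of 21 (by decide) g2_nil (by decide +kernel)

theorem gh53 : G3 (el (cw [2, 5, 0, 8] [1, 6, 7, 3])) := g3_trp 7 (by decide) (by decide +kernel)

end Cfsg.Agent.H878.RIM.Fi
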