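import Cfsg.Agent.H878.RIM.FiTool

/-!
# S4816, `Fi22`: the good elements, part 3 (helper878)
-/

set_option autoImplicit false
set_option maxRecDepth 1000000
set_option exponentiation.threshold 5000

namespace Cfsg.Agent.H878.RIM.Fi

open Cfsg Cfsg.Spor Cfsg.Agent.H123.Cls.FiDat
open Cfsg.Agent.H326.QS.FiRow (cw)
open Cfsg.Agent.H878.RIM.KTwo Cfsg.Agent.H878.RIM.KThree

theorem ky3 : key (el (cw [1, 8, 6] [2, 5, 7])) = [0, 3024] := key_of cm3 sg3 rfl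

theorem gt3 : G2 (el (cw [1, 8, 6] [2, 5, 7])) := g2_of 3 (by decide) g2_nil (by decide +kernel)

theorem ky7 : key (el (cw [2, 4, 7] [3, 8])) = [2496, 0] := key_of cm7 sg7 rfl

theorem gh7 : G3 (el (cw [2, 4, 7] [3, 8])) := g3_of 4 (by decide) (by decide +kernel)

theorem ky11 : key (el (cw [1, 5, 3] [0, 2, 4, 6])) = [2176, 0] := key_of cm11 sg11 rfl

theorem gh11 : G3 (el (cw [1, 5, 3] [0, 2, 4, 6])) := g3_of 4 (by decide) (by decide +kernel)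

theorem ky19 : key (el (cw [7, 1, 8, 3, 5, 7, 7, 2] [1, 2, 8, 7, 3, 4, 3])) = [1024, 720] := key_of cm19 sg19 rfl

theorem gt19 : G2 (el (cw [7, 1, 8, 3, 5, 7, 7, 2] [1, 2, 8, 7, 3, 4, 3])) := g2_of 3 (by decide)
  (g2_tw [3, 2] 1 [5, 4, 2, 3, 7, 8, 4, 2, 3, 7, 5, 4, 3, 2] 1 (by decide +kernel)) (by decide +kernel)

theorem ky24 : key (el (cw [0, 8, 3] [1, 2, 7])) = [2072, 2072] := key_of cm24 sg24 rfl

theorem gt24 : G2 (el (cw [0, 8, 3] [1, 2, 7])) := g2_of 7 (by decide) g2_nil (by decide +kernel)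

theorem gh24 : G3 (el (cw [0, 8, 3] [1, 2, 7])) := g3_of 7 (by decide) (by decide +kernel)

theorem ky28 : key (el (cw [7, 5, 4, 2, 1, 3, 5, 2, 4] [0, 6, 7, 3])) = [2400, 896] := key_of cm28 sg28 rfl

theorem gh28 : G3 (el (cw [7, 5, 4, 2, 1, 3, 5, 2, 4] [0, 6, 7, 3])) := g3_of 8 (by decide) (by decide +kernel)

theorem ky32 : key (el (cw [3, 5, 2, 7, 0] [1, 4, 8])) = [2324, 2120] := key_of cm32 sg32 rfl

theorem gt32 : G2 (el (cw [3, 5, 2, 7, 0] [1, 4, 8])) := g2_of 5 (by decide)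
  (g2_tw [] 1 [5, 4] 3 (by decide +kernel)) (by decide +kernel)

theorem gh32 : G3 (el (cw [3, 5, 2, 7, 0] [1, 4, 8])) := g3_of 10 (by decide) (by decide +kernel)

theorem ky46 : key (el (cw [2, 8, 4, 0] [1, 7, 3, 5])) = [2256, 2156] := key_of cm46 sg46 rfl

theorem gt46 : G2 (el (cw [2, 8, 4, 0] [1, 7, 3, 5])) := g2_of 7 (by decide) (g2_tr [5, 3, 4, 0, 1, 2, 3, 7, 8, 2, 3, 4, 1, 2, 3, 7, 5, 4, 3, 2, 1] 0) (by decide +kernel)

theorem gh46 : G3 (el (cw [2, 8, 4, 0] [1, 7, 3, 5])) := g3_of 14 (by decide) (by decide +kernel)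

theorem ky50 : key (el (cw [1, 4, 8] [5, 7, 3, 2])) = [2284, 2352] := key_of cm50 sg50 rfl

theorem gt50 : G2 (el (cw [1, 4, 8] [5, 7, 3, 2])) := g2_of 9 (by decide)
  (g2_tw [4, 1, 2, 3, 7, 8, 4, 2, 3, 7, 5, 4, 3, 2] 1 [2, 3, 7, 8, 4, 2, 3, 7, 5, 4, 3, 2] 1 (by decide +kernel)) (by decide +kernel)

theorem gh50 : G3 (el (cw [1, 4, 8] [5, 7, 3, 2])) := g3_tr (by decide +kernel)

theorem ky54 : key (el (cw [2, 7, 1, 8, 6, 4] [0, 5, 7, 3, 4, 7, 3])) = [2244, 2200] := key_of cm54 sg54 rfl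

theorem gt54 : G2 (el (cw [2, 7, 1, 8, 6, 4] [0, 5, 7, 3, 4, 7, 3])) := g2_of 11 (by decide) (g2_tr [3, 7, 8, 1, 2, 3, 7, 6, 5, 4, 3, 2, 1] 0) (by decide +kernel)

theorem gh54 : G3 (el (cw [2, 7, 1, 8, 6, 4] [0, 5, 7, 3, 4, 7, 3])) := g3_of 22 (by decide) (by decide +kernel)

end Cfsg.Agent.H878.RIM.Fi
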