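import Cfsg.Agent.H878.RIM.FiE0
import Cfsg.Agent.H878.RIM.FiE1
import Cfsg.Agent.H878.RIM.FiE2
import Cfsg.Agent.H878.RIM.FiE3

/-!
# S4816, `Fi22`: the lists of good elements (helper878)

`cnt_two` (30), `cnt_three` (23), `cnt_six` (20).
-/

set_option autoImplicit false
set_option maxRecDepth 1000000
set_option exponentiation.threshold 5000

namespace Cfsg.Agent.H878.RIM.Fi

open Cfsg Cfsg.Spor Cfsg.Agent.H123.Cls.FiDat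
open Cfsg.Agent.H326.QS.FiRow (cw)
open Cfsg.Agent.H878.RIM Cfsg.Agent.H878.RIM.KTwo Cfsg.Agent.H878.RIM.KThree

universe u

/-- the list for the kernel of order 2 -/
def L2 : List (List ℕ × List ℕ × List ℕ) := [([0], [0], [0, 0]),
  ([1, 8, 6], [2, 5, 7], [0, 3024]),
  ([3, 7, 4, 0, 3, 8, 5, 4, 7, 3], [2, 8, 7], [0, 1296]),
  ([0, 3], [1, 7], [0, 2016]),
  ([2], [1], [0, 3384]),
  ([8, 2], [7, 3], [2100, 2600]),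
  ([0, 8, 3], [1, 2, 7], [2072, 2072]),
  ([5, 1, 7], [2, 3, 4], [2484, 2268]),
  ([4, 8, 2], [1, 7, 3], [972, 1968]),
  ([8, 5, 7, 2, 8], [1, 3, 4, 7, 3], [972, 2208]),
  ([3, 2, 8, 6, 0], [1, 8, 7, 3, 4, 5], [2244, 2244]),
  ([5, 8, 2, 0], [1, 3, 4, 7], [2184, 2184]),
  ([4, 8, 0], [1, 7, 3], [2040, 2504]),
  ([2, 5, 0, 8], [1, 6, 7, 3], [2156, 2348]),
  ([7], [3, 8], [1024, 0]),
  ([8, 6, 5, 4, 3, 2, 7, 0, 4, 2, 2, 3, 4, 5, 6, 8], [3, 4, 6, 7, 8, 7, 3, 2, 4], [2816, 0]),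
  ([5, 0, 3, 8], [1, 6, 7], [880, 1536]),
  ([4, 3, 6, 2, 3], [7, 3, 5], [2168, 1368]),
  ([7, 1, 8, 3, 5, 7, 7, 2], [1, 2, 8, 7, 3, 4, 3], [1024, 720]),
  ([1, 4, 6], [0, 5], [448, 2424]),
  ([1, 7, 0, 5, 2, 1], [3, 2, 6, 7, 3, 5, 4, 5, 7, 3, 4, 8], [2816, 1296]),
  ([3, 6, 7, 2, 3], [5, 4, 7], [1520, 2088]),
  ([3, 5, 2, 7, 0], [1, 4, 8], [2324, 2120]),
  ([3, 5, 2], [4, 3, 6, 7], [2036, 2000]),
  ([2, 8, 4, 0], [1, 7, 3, 5], [2256, 2156]),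
  ([2, 5, 0, 8], [1, 4, 7, 3, 6], [2708, 2076]),
  ([1, 4, 8], [5, 7, 3, 2], [2284, 2352]),
  ([2, 3, 2, 5, 8, 1], [0, 4, 3, 7], [2492, 2208]),
  ([2, 7, 1, 8, 6, 4], [0, 5, 7, 3, 4, 7, 3], [2244, 2200]),
  ([4, 0, 3, 6, 8, 4], [5, 7, 3, 2, 1], [2240, 2228])]

theorem key_L2 : ∀ t ∈ L2, key (el (cw t.1 t.2.1)) = t.2.2 :=
  List.forall_mem_cons.2 ⟨ky58, List.forall_mem_cons.2 ⟨ky3, List.forall_mem_cons.2 ⟨ky4, List.forall_mem_cons.2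
  ⟨ky5, List.forall_mem_cons.2 ⟨ky6, List.forall_mem_cons.2 ⟨ky12, List.forall_mem_cons.2 ⟨ky24,
  List.forall_mem_cons.2 ⟨ky29, List.forall_mem_cons.2 ⟨ky30, List.forall_mem_cons.2 ⟨ky31, List.forall_mem_cons.2
  ⟨ky34, List.forall_mem_cons.2 ⟨ky45, List.forall_mem_cons.2 ⟨ky47, List.forall_mem_cons.2 ⟨ky53,
  List.forall_mem_cons.2 ⟨ky1, List.forall_mem_cons.2 ⟨ky2, List.forall_mem_cons.2 ⟨ky17, List.forall_mem_cons.2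
  ⟨ky18, List.forall_mem_cons.2 ⟨ky19, List.forall_mem_cons.2 ⟨ky21, List.forall_mem_cons.2 ⟨ky22,
  List.forall_mem_cons.2 ⟨ky23, List.forall_mem_cons.2 ⟨ky32, List.forall_mem_cons.2 ⟨ky33, List.forall_mem_cons.2
  ⟨ky46, List.forall_mem_cons.2 ⟨ky49, List.forall_mem_cons.2 ⟨ky50, List.forall_mem_cons.2 ⟨ky51,
  List.forall_mem_cons.2 ⟨ky54, List.forall_mem_cons.2 ⟨ky57, List.forall_mem_nil _⟩⟩⟩⟩⟩⟩⟩⟩⟩⟩⟩⟩⟩⟩⟩⟩⟩⟩⟩⟩⟩⟩⟩⟩⟩⟩⟩⟩⟩⟩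

theorem nodup_L2 : (L2.map fun t => t.2.2).Nodup := by decide

theorem two_L2 : ∀ t ∈ L2, G2 (el (cw t.1 t.2.1)) :=
  List.forall_mem_cons.2 ⟨gt58, List.forall_mem_cons.2 ⟨gt3, List.forall_mem_cons.2 ⟨gt4, List.forall_mem_cons.2
  ⟨gt5, List.forall_mem_cons.2 ⟨gt6, List.forall_mem_cons.2 ⟨gt12, List.forall_mem_cons.2 ⟨gt24,
  List.forall_mem_cons.2 ⟨gt29, List.forall_mem_cons.2 ⟨gt30, List.forall_mem_cons.2 ⟨gt31, List.forall_mem_cons.2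
  ⟨gt34, List.forall_mem_cons.2 ⟨gt45, List.forall_mem_cons.2 ⟨gt47, List.forall_mem_cons.2 ⟨gt53,
  List.forall_mem_cons.2 ⟨gt1, List.forall_mem_cons.2 ⟨gt2, List.forall_mem_cons.2 ⟨gt17, List.forall_mem_cons.2
  ⟨gt18, List.forall_mem_cons.2 ⟨gt19, List.forall_mem_cons.2 ⟨gt21, List.forall_mem_cons.2 ⟨gt22,
  List.forall_mem_cons.2 ⟨gt23, List.forall_mem_cons.2 ⟨gt32, List.forall_mem_cons.2 ⟨gt33, List.forall_mem_cons.2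
  ⟨gt46, List.forall_mem_cons.2 ⟨gt49, List.forall_mem_cons.2 ⟨gt50, List.forall_mem_cons.2 ⟨gt51,
  List.forall_mem_cons.2 ⟨gt54, List.forall_mem_cons.2 ⟨gt57, List.forall_mem_nil _⟩⟩⟩⟩⟩⟩⟩⟩⟩⟩⟩⟩⟩⟩⟩⟩⟩⟩⟩⟩⟩⟩⟩⟩⟩⟩⟩⟩⟩⟩

theorem cnt_two {S : Type u} [Group S] (e : S ≃* Spor.Fi22) : Cnt 30 2 S := by
  have h := cnt_of_list e (L2.map fun t => el (cw t.1 t.2.1)) (pairwise_key key_L2 nodup_L2) (m := 2) (by
    intro g hg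
    obtain ⟨t, ht, rfl⟩ := List.mem_map.1 hg
    exact lgood_two (two_L2 t ht))
  rw [List.length_map] at h
  exact h

/-- the list for the kernel of order 3 -/
def L3 : List (List ℕ × List ℕ × List ℕ) := [([0], [0], [0, 0]),
  ([3, 7, 4, 3], [2, 4], [2304, 0]),
  ([7], [3, 8], [1024, 0]),
  ([8, 6, 5, 4, 3, 2, 7, 0, 4, 2, 2, 3, 4, 5, 6, 8], [3, 4, 6, 7, 8, 7, 3, 2, 4], [2816, 0]),
  ([2, 4, 7], [3, 8], [2496, 0]),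
  ([3, 7, 5, 1, 0, 8, 2, 4, 6, 1, 5, 7, 3], [4, 3, 2], [3072, 0]),
  ([8, 4], [5, 7, 3], [2560, 0]),
  ([3, 5, 2, 7, 3], [4, 6, 8, 7, 3, 5, 4], [2688, 0]),
  ([1, 5, 3], [0, 2, 4, 6], [2176, 0]),
  ([8, 2], [7, 3], [2100, 2600]),
  ([0, 8, 3], [1, 2, 7], [2072, 2072]),
  ([5, 2, 8], [3, 4, 6, 7], [2240, 1792]),
  ([1, 7, 6, 3, 0], [1, 2, 4, 3, 5, 4], [2112, 768]),
  ([5, 4, 6, 7, 0], [1, 3, 2, 6, 7, 3], [2528, 896]),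
  ([7, 5, 4, 2, 1, 3, 5, 2, 4], [0, 6, 7, 3], [2400, 896]),
  ([3, 5, 2, 7, 0], [1, 4, 8], [2324, 2120]),
  ([3, 5, 2], [4, 3, 6, 7], [2036, 2000]),
  ([3, 2, 8, 6, 0], [1, 8, 7, 3, 4, 5], [2244, 2244]),
  ([5, 8, 2, 0], [1, 3, 4, 7], [2184, 2184]),
  ([2, 8, 4, 0], [1, 7, 3, 5], [2256, 2156]),
  ([7, 2, 2, 1, 3, 6, 8, 2], [0, 2, 7, 3, 4, 5], [2368, 2528]),
  ([5, 1, 8, 4], [6, 7, 3, 2], [2228, 2040]),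
  ([2, 7, 1, 8, 6, 4], [0, 5, 7, 3, 4, 7, 3], [2244, 2200])]

theorem key_L3 : ∀ t ∈ L3, key (el (cw t.1 t.2.1)) = t.2.2 :=
  List.forall_mem_cons.2 ⟨ky58, List.forall_mem_cons.2 ⟨ky0, List.forall_mem_cons.2 ⟨ky1, List.forall_mem_cons.2
  ⟨ky2, List.forall_mem_cons.2 ⟨ky7, List.forall_mem_cons.2 ⟨ky8, List.forall_mem_cons.2 ⟨ky9,
  List.forall_mem_cons.2 ⟨ky10, List.forall_mem_cons.2 ⟨ky11, List.forall_mem_cons.2 ⟨ky12, List.forall_mem_cons.2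
  ⟨ky24, List.forall_mem_cons.2 ⟨ky25, List.forall_mem_cons.2 ⟨ky26, List.forall_mem_cons.2 ⟨ky27,
  List.forall_mem_cons.2 ⟨ky28, List.forall_mem_cons.2 ⟨ky32, List.forall_mem_cons.2 ⟨ky33, List.forall_mem_cons.2
  ⟨ky34, List.forall_mem_cons.2 ⟨ky45, List.forall_mem_cons.2 ⟨ky46, List.forall_mem_cons.2 ⟨ky48,
  List.forall_mem_cons.2 ⟨ky52, List.forall_mem_cons.2 ⟨ky54, List.forall_mem_nil _⟩⟩⟩⟩⟩⟩⟩⟩⟩⟩⟩⟩⟩⟩⟩⟩⟩⟩⟩⟩⟩⟩⟩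

theorem nodup_L3 : (L3.map fun t => t.2.2).Nodup := by decide

theorem three_L3 : ∀ t ∈ L3, G3 (el (cw t.1 t.2.1)) :=
  List.forall_mem_cons.2 ⟨gh58, List.forall_mem_cons.2 ⟨gh0, List.forall_mem_cons.2 ⟨gh1, List.forall_mem_cons.2
  ⟨gh2, List.forall_mem_cons.2 ⟨gh7, List.forall_mem_cons.2 ⟨gh8, List.forall_mem_cons.2 ⟨gh9,
  List.forall_mem_cons.2 ⟨gh10, List.forall_mem_cons.2 ⟨gh11, List.forall_mem_cons.2 ⟨gh12, List.forall_mem_cons.2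
  ⟨gh24, List.forall_mem_cons.2 ⟨gh25, List.forall_mem_cons.2 ⟨gh26, List.forall_mem_cons.2 ⟨gh27,
  List.forall_mem_cons.2 ⟨gh28, List.forall_mem_cons.2 ⟨gh32, List.forall_mem_cons.2 ⟨gh33, List.forall_mem_cons.2
  ⟨gh34, List.forall_mem_cons.2 ⟨gh45, List.forall_mem_cons.2 ⟨gh46, List.forall_mem_cons.2 ⟨gh48,
  List.forall_mem_cons.2 ⟨gh52, List.forall_mem_cons.2 ⟨gh54, List.forall_mem_nil _⟩⟩⟩⟩⟩⟩⟩⟩⟩⟩⟩⟩⟩⟩⟩⟩⟩⟩⟩⟩⟩⟩⟩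

theorem cnt_three {S : Type u} [Group S] (e : S ≃* Spor.Fi22) : Cnt 23 3 S := by
  have h := cnt_of_list e (L3.map fun t => el (cw t.1 t.2.1)) (pairwise_key key_L3 nodup_L3) (m := 3) (by
    intro g hg
    obtain ⟨t, ht, rfl⟩ := List.mem_map.1 hg
    exact lgood_three (three_L3 t ht))
  rw [List.length_map] at h
  exact h

/-- the list for the kernel of order 6 -/
def L6 : List (List ℕ × List ℕ × List ℕ) := [([0], [0], [0, 0]),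
  ([7], [3, 8], [1024, 0]),
  ([8, 6, 5, 4, 3, 2, 7, 0, 4, 2, 2, 3, 4, 5, 6, 8], [3, 4, 6, 7, 8, 7, 3, 2, 4], [2816, 0]),
  ([2], [1], [0, 3384]),
  ([8, 2], [7, 3], [2100, 2600]),
  ([1, 4, 6], [0, 5], [448, 2424]),
  ([3, 6, 7, 2, 3], [5, 4, 7], [1520, 2088]),
  ([0, 8, 3], [1, 2, 7], [2072, 2072]),
  ([8, 5, 7, 2, 8], [1, 3, 4, 7, 3], [972, 2208]),
  ([3, 5, 2, 7, 0], [1, 4, 8], [2324, 2120]),
  ([3, 5, 2], [4, 3, 6, 7], [2036, 2000]),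
  ([3, 2, 8, 6, 0], [1, 8, 7, 3, 4, 5], [2244, 2244]),
  ([5, 8, 2, 0], [1, 3, 4, 7], [2184, 2184]),
  ([2, 8, 4, 0], [1, 7, 3, 5], [2256, 2156]),
  ([4, 8, 0], [1, 7, 3], [2040, 2504]),
  ([1, 4, 8], [5, 7, 3, 2], [2284, 2352]),
  ([2, 3, 2, 5, 8, 1], [0, 4, 3, 7], [2492, 2208]),
  ([2, 5, 0, 8], [1, 6, 7, 3], [2156, 2348]),
  ([2, 7, 1, 8, 6, 4], [0, 5, 7, 3, 4, 7, 3], [2244, 2200]),
  ([4, 0, 3, 6, 8, 4], [5, 7, 3, 2, 1], [2240, 2228])]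

theorem key_L6 : ∀ t ∈ L6, key (el (cw t.1 t.2.1)) = t.2.2 :=
  List.forall_mem_cons.2 ⟨ky58, List.forall_mem_cons.2 ⟨ky1, List.forall_mem_cons.2 ⟨ky2, List.forall_mem_cons.2
  ⟨ky6, List.forall_mem_cons.2 ⟨ky12, List.forall_mem_cons.2 ⟨ky21, List.forall_mem_cons.2 ⟨ky23,
  List.forall_mem_cons.2 ⟨ky24, List.forall_mem_cons.2 ⟨ky31, List.forall_mem_cons.2 ⟨ky32, List.forall_mem_cons.2
  ⟨ky33, List.forall_mem_cons.2 ⟨ky34, List.forall_mem_cons.2 ⟨ky45, List.forall_mem_cons.2 ⟨ky46,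
  List.forall_mem_cons.2 ⟨ky47, List.forall_mem_cons.2 ⟨ky50, List.forall_mem_cons.2 ⟨ky51, List.forall_mem_cons.2
  ⟨ky53, List.forall_mem_cons.2 ⟨ky54, List.forall_mem_cons.2 ⟨ky57, List.forall_mem_nil _⟩⟩⟩⟩⟩⟩⟩⟩⟩⟩⟩⟩⟩⟩⟩⟩⟩⟩⟩⟩

theorem nodup_L6 : (L6.map fun t => t.2.2).Nodup := by decide

theorem two_L6 : ∀ t ∈ L6, G2 (el (cw t.1 t.2.1)) :=
  List.forall_mem_cons.2 ⟨gt58, List.forall_mem_cons.2 ⟨gt1, List.forall_mem_cons.2 ⟨gt2, List.forall_mem_cons.2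
  ⟨gt6, List.forall_mem_cons.2 ⟨gt12, List.forall_mem_cons.2 ⟨gt21, List.forall_mem_cons.2 ⟨gt23,
  List.forall_mem_cons.2 ⟨gt24, List.forall_mem_cons.2 ⟨gt31, List.forall_mem_cons.2 ⟨gt32, List.forall_mem_cons.2
  ⟨gt33, List.forall_mem_cons.2 ⟨gt34, List.forall_mem_cons.2 ⟨gt45, List.forall_mem_cons.2 ⟨gt46,
  List.forall_mem_cons.2 ⟨gt47, List.forall_mem_cons.2 ⟨gt50, List.forall_mem_cons.2 ⟨gt51, List.forall_mem_cons.2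
  ⟨gt53, List.forall_mem_cons.2 ⟨gt54, List.forall_mem_cons.2 ⟨gt57, List.forall_mem_nil _⟩⟩⟩⟩⟩⟩⟩⟩⟩⟩⟩⟩⟩⟩⟩⟩⟩⟩⟩⟩

theorem three_L6 : ∀ t ∈ L6, G3 (el (cw t.1 t.2.1)) :=
  List.forall_mem_cons.2 ⟨gh58, List.forall_mem_cons.2 ⟨gh1, List.forall_mem_cons.2 ⟨gh2, List.forall_mem_cons.2
  ⟨gh6, List.forall_mem_cons.2 ⟨gh12, List.forall_mem_cons.2 ⟨gh21, List.forall_mem_cons.2 ⟨gh23,
  List.forall_mem_cons.2 ⟨gh24, List.forall_mem_cons.2 ⟨gh31, List.forall_mem_cons.2 ⟨gh32, List.forall_mem_cons.2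
  ⟨gh33, List.forall_mem_cons.2 ⟨gh34, List.forall_mem_cons.2 ⟨gh45, List.forall_mem_cons.2 ⟨gh46,
  List.forall_mem_cons.2 ⟨gh47, List.forall_mem_cons.2 ⟨gh50, List.forall_mem_cons.2 ⟨gh51, List.forall_mem_cons.2
  ⟨gh53, List.forall_mem_cons.2 ⟨gh54, List.forall_mem_cons.2 ⟨gh57, List.forall_mem_nil _⟩⟩⟩⟩⟩⟩⟩⟩⟩⟩⟩⟩⟩⟩⟩⟩⟩⟩⟩⟩

theorem cnt_six {S : Type u} [Group S] (e : S ≃* Spor.Fi22) : Cnt 20 6 S := by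
  have h := cnt_of_list e (L6.map fun t => el (cw t.1 t.2.1)) (pairwise_key key_L6 nodup_L6) (m := 6) (by
    intro g hg
    obtain ⟨t, ht, rfl⟩ := List.mem_map.1 hg
    exact lgood_six (two_L6 t ht) (three_L6 t ht))
  rw [List.length_map] at h
  exact h

end Cfsg.Agent.H878.RIM.Fi
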